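import Groth.Prelude.Def_AGF
import Groth.Agent.Lib.Homog.Affine
import Groth.Agent.Lib.GrpQ.Transfer
import Groth.Agent.Lib.GrpQ.DomFF
import Groth.Agent.Lib.Flat55.FlatDescend
import Groth.Agent.Lib.FibreDeg.Basic
import Groth.Agent.Lib.H1.SpecialBirat.Birat

/-!
The no-name lemma: if `G ↪ P = G₁ × G₂` and `X = P/G`, then `X → G₁/G` is a `G₂`-torsor, so `X` is birational to
`(G₁/G) × 𝔸ʳ` when `G₂` is special and rational.
-/

set_option autoImplicit false

universe u

open CategoryTheory CategoryTheory.Limits MonoidalCategory CartesianMonoidalCategory MonObj GrpObj AlgebraicGeometry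
open Groth.Agent.Lib Groth.Agent.Lib.GrpQ

namespace Groth.Agent.Lib.H1.SpecialBirat

variable {S : Scheme.{u}} {G H X : Over S} [GrpObj G] [GrpObj H]

/-- Restriction of an action along a homomorphism. -/
noncomputable def resAct (f : H ⟶ G) [IsMonHom f] (a : AlgGrp.Action G X) : AlgGrp.Action H X :=
  GrpSch.actionMk ((f ▷ X) ≫ a.act)
    (fun T x => by rw [lift_whiskerRight_assoc, MonObj.one_comp, GrpSch.act_one])
    (fun T g h x => by
      simp only [lift_whiskerRight_assoc, MonObj.mul_comp]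
      rw [GrpSch.act_mul])

theorem lift_resAct (f : H ⟶ G) [IsMonHom f] (a : AlgGrp.Action G X) {T : Over S} (g : T ⟶ H) (x : T ⟶ X) :
    lift g x ≫ (resAct f a).act = lift (g ≫ f) x ≫ a.act := lift_whiskerRight_assoc _ _ _ _

theorem resAct_orbit (f : H ⟶ G) [IsMonHom f] (a : AlgGrp.Action G X) (o : 𝟙_ (Over S) ⟶ X) :
    (resAct f a).orbitMap o = f ≫ a.orbitMap o := by
  rw [GrpSch.comp_orbit]
  have := GrpSch.comp_orbit (resAct f a) (𝟙 H) o
  rw [Category.id_comp, lift_resAct, Category.id_comp] at this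
  exact this

section Field

variable {k : Type u} [Field k]

theorem half {G G₁ G₂ P X Q₁ : Over (Spec (CommRingCat.of k))} [GrpObj G] [GrpObj G₁] [GrpObj G₂] [GrpObj P]
    [IsAffine G₁.left] [IsAffine G₂.left] [IsAffine P.left]
    [LocallyOfFiniteType G₁.hom] [LocallyOfFiniteType G₂.hom] [LocallyOfFiniteType P.hom]
    (i₁ : G ⟶ G₁) [IsMonHom i₁] [Mono i₁] (i : G ⟶ P) [IsMonHom i] (p : P ⟶ G₁) [IsMonHom p]
    (q : P ⟶ G₂) [IsMonHom q] (hip : i ≫ p = i₁) [Flat p.left] [Surjective p.left]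
    (pair : ∀ {T : Over (Spec (CommRingCat.of k))}, (T ⟶ G₁) → (T ⟶ G₂) → (T ⟶ P))
    (hpp : ∀ {T : Over (Spec (CommRingCat.of k))} (a : T ⟶ G₁) (b : T ⟶ G₂), pair a b ≫ p = a)
    (hpq : ∀ {T : Over (Spec (CommRingCat.of k))} (a : T ⟶ G₁) (b : T ⟶ G₂), pair a b ≫ q = b)
    (hext : ∀ {T : Over (Spec (CommRingCat.of k))} (x y : T ⟶ P), x ≫ p = y ≫ p → x ≫ q = y ≫ q → x = y)
    (hsp₂ : (∀ (X' Y' : Over (Spec (CommRingCat.of k))) (a : AlgGrp.Action G₂ X') (p : X' ⟶ Y'),
      LocallyOfFiniteType X'.hom → QuasiCompact X'.hom → LocallyOfFiniteType Y'.hom → QuasiCompact Y'.hom →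
      Flat p.left → Surjective p.left → IsPullback a.act.left (snd G₂ X').left p.left p.left →
      ∀ y : ↥Y'.left, ∃ (W : Y'.left.Opens) (s : (W : Scheme.{u}) ⟶ X'.left), y ∈ W ∧ s ≫ p.left = W.ι))
    [Scheme.IsRationalOver G₁.hom] [Scheme.IsRationalOver G₂.hom]
    (a : AlgGrp.Action P X) (o : 𝟙_ (Over (Spec (CommRingCat.of k))) ⟶ X) (hX : AGF.IsQuotient i X a o)
    (hXqc : QuasiCompact X.hom)
    (a₁ : AlgGrp.Action G₁ Q₁) (o₁ : 𝟙_ (Over (Spec (CommRingCat.of k))) ⟶ Q₁)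
    (hQ₁ : AGF.IsQuotient i₁ Q₁ a₁ o₁) :
    ∃ r : ℕ, Scheme.BirationalOver
      (pullback.fst Q₁.hom (Spec.map (CommRingCat.ofHom (algebraMap k (MvPolynomial (Fin r) k)))) ≫ Q₁.hom)
      X.hom := by
  have hcP := Homog.isCover_of_isQuotient hX
  have : LocallyOfFiniteType X.hom := hX.1
  have : LocallyOfFiniteType Q₁.hom := hQ₁.1
  have : Flat (a.orbitMap o).left := hX.2.1
  have : Surjective (a.orbitMap o).left := hX.2.2.1
  have : Flat (a₁.orbitMap o₁).left := hQ₁.2.1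
  have : Surjective (a₁.orbitMap o₁).left := hQ₁.2.2.1
  have : QuasiCompact Q₁.hom := by
    have : QuasiCompact ((a₁.orbitMap o₁).left ≫ Q₁.hom) := by rw [Over.w]; infer_instance
    exact GrpQ.Transfer.quasiCompact_of_comp_surjective (a₁.orbitMap o₁).left Q₁.hom
  -- the projection to `Q₁`
  have hio : i ≫ (resAct p a₁).orbitMap o₁ = toUnit G ≫ o₁ := by
    rw [resAct_orbit, reassoc_of% hip, Homog.comp_orbit_of_quotient hQ₁.2.2.2]
  obtain ⟨π, ⟨-, hπ⟩, -⟩ := Homog.existsUnique_equivariant hX (resAct p a₁) o₁ hio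
  rw [resAct_orbit] at hπ
  -- the action of `G₂`
  let j : G₂ ⟶ P := pair 1 (𝟙 G₂)
  have hj : ∀ {T : Over (Spec (CommRingCat.of k))} (g : T ⟶ G₂), g ≫ j ≫ p = 1 ∧ g ≫ j ≫ q = g :=
    fun g => ⟨by rw [hpp, MonObj.comp_one], by rw [hpq, Category.comp_id]⟩
  have hjm : ∀ (T : Over (Spec (CommRingCat.of k))) (g h : T ⟶ G₂), (g * h) ≫ j = (g ≫ j) * (h ≫ j) := by
    intro T g h
    apply hext
    · rw [Category.assoc, (hj _).1, MonObj.mul_comp, Category.assoc, Category.assoc, (hj _).1, (hj _).1,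
        _root_.mul_one]
    · rw [Category.assoc, (hj _).2, MonObj.mul_comp, Category.assoc, Category.assoc, (hj _).2, (hj _).2]
  have : IsMonHom j := by
    refine ⟨?_, ?_⟩
    · have h1 := hjm (𝟙_ _) 1 1
      rw [_root_.mul_one, eq_comm, mul_eq_left] at h1
      simpa [Hom.one_def, toUnit_unique (toUnit (𝟙_ _)) (𝟙 _)] using h1
    · have h1 := hjm (G₂ ⊗ G₂) (fst _ _) (snd _ _)
      rw [Hom.mul_def, Hom.mul_def, lift_fst_snd, Category.id_comp, lift_fst_comp_snd_comp] at h1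
      exact h1
  let b : AlgGrp.Action G₂ X := resAct j a
  have hb : ∀ {T : Over (Spec (CommRingCat.of k))} (g : T ⟶ G₂) (y : T ⟶ P),
      lift g (y ≫ a.orbitMap o) ≫ b.act = ((g ≫ j) * y) ≫ a.orbitMap o := by
    intro T g y
    rw [lift_resAct, GrpSch.mul_orbit]
  have hπb : ∀ {T : Over (Spec (CommRingCat.of k))} (y : T ⟶ P),
      y ≫ a.orbitMap o ≫ π = (y ≫ p) ≫ a₁.orbitMap o₁ := fun y => by rw [hπ, Category.assoc]
  -- uniqueness of translations
  have huniq : ∀ {T : Over (Spec (CommRingCat.of k))} (g g' : T ⟶ G₂) (x : T ⟶ X),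
      lift g x ≫ b.act = lift g' x ≫ b.act → g = g' := by
    intro T g g' x e
    obtain ⟨T', c, y, hc, hy⟩ := exists_lift hcP x
    refine cancel_cover hc ?_
    have e' : ((c ≫ g) ≫ j * y) ≫ a.orbitMap o = ((c ≫ g') ≫ j * y) ≫ a.orbitMap o := by
      rw [← hb, ← hb, hy, ← comp_lift_assoc, ← comp_lift_assoc, e]
    obtain ⟨h, hh⟩ := Homog.exists_rel hX.2.2.2 _ _ e'
    have h1 := congrArg (· ≫ p) hh
    simp only [MonObj.mul_comp, Category.assoc, hip] at h1
    rw [← Category.assoc c, (hj _).1, ← Category.assoc c, (hj _).1, _root_.one_mul, eq_comm, mul_eq_left] at h1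
    have h2 : h = 1 := by rw [← cancel_mono i₁, h1, MonObj.one_comp]
    rw [h2, MonObj.one_comp, _root_.mul_one, mul_left_inj] at hh
    have h3 := congrArg (· ≫ q) hh
    simpa only [Category.assoc, (hj _).2] using h3.symm
  -- the torsor square
  have w : b.act ≫ π = snd G₂ X ≫ π := by
    obtain ⟨_, _, _⟩ := hcP
    have hc' : IsCover (G₂ ◁ a.orbitMap o) :=
      ⟨GrpSch.whiskerLeft_left_of (P := @Flat) _ _ ‹_›, GrpSch.whiskerLeft_left_of (P := @Surjective) _ _ ‹_›,
        GrpSch.whiskerLeft_left_of (P := @QuasiCompact) _ _ ‹_›⟩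
    refine cancel_cover hc' ?_
    have e := hb (fst G₂ P) (snd G₂ P)
    rw [show lift (fst G₂ P) (snd G₂ P ≫ a.orbitMap o) = G₂ ◁ a.orbitMap o by ext <;> simp] at e
    rw [← Category.assoc, e, whiskerLeft_snd_assoc, Category.assoc, hπb, hπb, MonObj.mul_comp,
      Category.assoc (fst G₂ P), (hj _).1, _root_.one_mul]
  have hsq : IsPullback b.act.left (snd G₂ X).left π.left π.left := by
    refine GrpQ.DomFlat.isPullback_of_forall w ?_ ?_
    · intro T x' x e
      obtain ⟨T₁, c₁, y, hc₁, hy⟩ := exists_lift hcP x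
      obtain ⟨T₂, c₂, y', hc₂, hy'⟩ := exists_lift hcP (c₁ ≫ x')
      have e2 : (y' ≫ p) ≫ a₁.orbitMap o₁ = ((c₂ ≫ y) ≫ p) ≫ a₁.orbitMap o₁ := by
        rw [← hπb, ← hπb, reassoc_of% hy', Category.assoc c₂, reassoc_of% hy, e]
      obtain ⟨h, hh⟩ := Homog.exists_rel hQ₁.2.2.2 _ _ e2.symm
      -- `y''` has the same image as `y` and the same first component as `y'`
      let y'' : T₂ ⟶ P := (c₂ ≫ y) * (h ≫ i)
      have hy'' : y'' ≫ a.orbitMap o = (c₂ ≫ c₁) ≫ x := by
        rw [GrpSch.mul_orbit, Category.assoc h, Homog.comp_orbit_of_quotient hX.2.2.2, ← Category.assoc h,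
          toUnit_unique (h ≫ toUnit G) (toUnit T₂), ← GrpSch.comp_orbit, Category.assoc, hy, Category.assoc]
      have hyp : y'' ≫ p = y' ≫ p := by rw [MonObj.mul_comp, Category.assoc h, hip, hh]
      let g : T₂ ⟶ G₂ := (y' ≫ q) * (y'' ≫ q)⁻¹
      have hgy : (g ≫ j) * y'' = y' := by
        apply hext
        · rw [MonObj.mul_comp, Category.assoc, (hj _).1, _root_.one_mul, hyp]
        · rw [MonObj.mul_comp, Category.assoc, (hj _).2, inv_mul_cancel_right]
      have hg : lift g ((c₂ ≫ c₁) ≫ x) ≫ b.act = (c₂ ≫ c₁) ≫ x' := by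
        rw [← hy'', hb, hgy, hy', Category.assoc]
      obtain ⟨g₀, hg₀⟩ := exists_desc (hc₂.comp hc₁) g fun Z u v huv => by
        refine huniq _ _ (u ≫ (c₂ ≫ c₁) ≫ x) ?_
        have huv' : ∀ {A : Over (Spec (CommRingCat.of k))} (t : T ⟶ A),
            u ≫ (c₂ ≫ c₁) ≫ t = v ≫ (c₂ ≫ c₁) ≫ t := fun t => by
          rw [← Category.assoc u, huv, Category.assoc]
        rw [← comp_lift_assoc, hg, huv', huv', ← comp_lift_assoc, hg]
      refine ⟨lift g₀ x, cancel_cover (hc₂.comp hc₁) ?_, lift_snd _ _⟩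
      rw [← Category.assoc, comp_lift, hg₀, hg]
    · intro T l l' e1 e2
      have hl : ∀ m : T ⟶ G₂ ⊗ X, lift (m ≫ fst G₂ X) (m ≫ snd G₂ X) = m := fun m => by
        rw [← comp_lift, lift_fst_snd, Category.comp_id]
      refine CartesianMonoidalCategory.hom_ext _ _ (huniq _ _ (l ≫ snd G₂ X) ?_) e2
      conv_rhs => rw [e2]
      rw [hl, hl, e1]
  -- flatness and surjectivity
  have hcomp : (a.orbitMap o).left ≫ π.left = p.left ≫ (a₁.orbitMap o₁).left := by
    rw [← Over.comp_left, hπ, Over.comp_left]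
  have : Flat ((a.orbitMap o).left ≫ π.left) := by rw [hcomp]; infer_instance
  have : Flat π.left := Flat55.FlatDescend.flat_of_comp (a.orbitMap o).left π.left
  have : Surjective ((a.orbitMap o).left ≫ π.left) := by rw [hcomp]; infer_instance
  have : Surjective π.left := Surjective.of_comp (a.orbitMap o).left π.left
  have : LocallyOfFiniteType π.left := GrpQ.locallyOfFiniteType_left π
  have : IsLocallyNoetherian Q₁.left := LocallyOfFiniteType.isLocallyNoetherian Q₁.hom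
  -- `Q₁` is irreducible
  obtain ⟨hI₁, -⟩ := exists_birationalOver_spec G₁.hom
  have : IrreducibleSpace Q₁.left := by
    have hr : IsIrreducible (Set.range (a₁.orbitMap o₁).left) := by
      rw [← Set.image_univ]
      exact (IrreducibleSpace.isIrreducible_univ _).image _ (Scheme.Hom.continuous _).continuousOn
    rw [Set.range_eq_univ.mpr (a₁.orbitMap o₁).left.surjective] at hr
    exact { toPreirreducibleSpace := ⟨hr.2⟩, toNonempty := ⟨hr.1.some⟩ }
  -- the section
  obtain ⟨y₀⟩ := (inferInstance : Nonempty Q₁.left)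
  obtain ⟨W, s, hyW, hs⟩ := hsp₂ X Q₁ b π ‹_› ‹_› ‹_› ‹_› ‹_› ‹_› hsq y₀
  have := Opens.isDominant_ι (W.2.dense ⟨y₀, hyW⟩)
  let Wo : Over (Spec (CommRingCat.of k)) := Over.mk (W.ι ≫ Q₁.hom)
  let sW : Wo ⟶ X := Over.homMk s (by
    show s ≫ X.hom = W.ι ≫ Q₁.hom
    rw [← Over.w π, reassoc_of% hs])
  let m : G₂ ⊗ Wo ⟶ X := (G₂ ◁ sW) ≫ b.act
  have hm : IsPullback m.left (snd G₂ Wo).left π.left W.ι := by
    have := (GrpSch.isPullback_whiskerLeft G₂ sW).paste_horiz hsq
    rwa [show sW.left ≫ π.left = W.ι from hs, ← Over.comp_left] at this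
  have : IsOpenImmersion m.left := MorphismProperty.of_isPullback (P := @IsOpenImmersion) hm.flip inferInstance
  have : IsDominant m.left := isDominant_of_isPullback hm.flip π.left.isOpenMap
  have h1 : Scheme.BirationalOver (G₂ ⊗ Wo).hom X.hom := m.left.birationalOver _ _ (Over.w m)
  -- affine space
  obtain ⟨-, r, hr⟩ := exists_birationalOver_spec G₂.hom
  have : Flat G₂.hom := FibreDeg.Basic.flat_of_field _
  have : Flat Q₁.hom := FibreDeg.Basic.flat_of_field _
  refine ⟨r, ?_⟩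
  exact ((birationalOver_prod hr.symm Q₁.hom).trans (birationalOver_swap Q₁.hom G₂.hom)).trans
    ((birationalOver_prod_oi Q₁.hom (W.ι ≫ Q₁.hom) W.ι rfl G₂.hom).symm.trans h1)

end Field

end Groth.Agent.Lib.H1.SpecialBirat
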